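import Mathlib
import Cfsg.Agent.Lib.Spor.TC.Signed

/-!
Words in generators and their inverses for the Harada–Norton presentation: the letters `2 i` and `2 i + 1` stand
for the `i`th generator and its inverse.
-/

set_option autoImplicit false

namespace CfsgLib.Spor.HN

open CfsgLib.Spor.TC

variable {G : Type*} [Group G]

/-- The values of the letters. -/
def letterVal (l : List G) (x : ℕ) : G := if x % 2 = 0 then l.getD (x / 2) 1 else (l.getD (x / 2) 1)⁻¹

theorem letterVal_of_le {l : List G} {x : ℕ} (h : 2 * l.length ≤ x) : letterVal l x = 1 := by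
  rw [letterVal, List.getD_eq_default _ _ (by omega)]
  simp

theorem letterVal_inv (l : List G) (x : ℕ) : letterVal l (invLetter (2 * l.length) x) = (letterVal l x)⁻¹ := by
  unfold invLetter
  rcases h : Nat.ble (2 * l.length) x
  · show letterVal l (Nat.xor x 1) = _
    rcases Nat.mod_two_eq_zero_or_one x with h0 | h0
    · have e : Nat.xor x 1 = x + 1 := by
        show x ^^^ 1 = _
        rw [Nat.xor_one_of_even (Nat.even_iff.2 h0)]
      rw [e, letterVal, letterVal, if_neg (by omega), if_pos h0, show (x + 1) / 2 = x / 2 by omega]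
    · have e : Nat.xor x 1 = x - 1 := by
        show x ^^^ 1 = _
        rw [Nat.xor_one_of_odd (Nat.odd_iff.2 h0)]
      rw [e, letterVal, letterVal, if_pos (by omega), if_neg (by omega), show (x - 1) / 2 = x / 2 by omega, inv_inv]
  · show letterVal l x = _
    rw [letterVal_of_le (Nat.le_of_ble_eq_true h), inv_one]

theorem invLetter_lt {k x : ℕ} (hk : k % 2 = 0) (h : x < k) : invLetter k x < k := by
  unfold invLetter
  rcases hb : Nat.ble k x
  · show x ^^^ 1 < k
    rcases Nat.mod_two_eq_zero_or_one x with h0 | h0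
    · rw [Nat.xor_one_of_even (Nat.even_iff.2 h0)]; omega
    · rw [Nat.xor_one_of_odd (Nat.odd_iff.2 h0)]; omega
  · have := Nat.le_of_ble_eq_true hb; omega

theorem map_letterVal {H : Type*} [Group H] (f : G →* H) (l : List G) (x : ℕ) :
    f (letterVal l x) = letterVal (l.map f) x := by
  unfold letterVal
  rw [← map_one f, List.getD_map]
  split_ifs <;> simp

theorem map_ev_letterVal {H : Type*} [Group H] (f : G →* H) (l : List G) (w : List ℕ) :
    f (ev (letterVal l) w) = ev (letterVal (l.map f)) w := by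
  simp only [ev, map_list_prod, List.map_map]
  exact congrArg List.prod (List.map_congr_left fun x _ => map_letterVal f l x)

/-- The six relators on `x`, `y`. -/
def pairRels : List (List ℕ) := [
  [2, 2, 2, 2, 2, 2],
  [0, 0, 2, 0, 0, 3],
  [1, 3, 0, 2, 1, 3, 0, 2, 1, 3, 0, 2],
  [1, 2, 2, 0, 2, 2, 2, 1, 2, 2, 0, 2, 2, 2, 1, 2, 2, 0, 2, 2, 2],
  [0, 2, 0, 2, 0, 2, 0, 2, 0, 2, 0, 2, 0, 2, 0, 2],
  [0, 2, 0, 2, 2, 2, 0, 2, 0, 2, 2, 2, 0, 2, 0, 2, 2, 2, 0, 2, 0, 2, 2, 2]]

/-- The four relators on `x`, `y`, `z`. -/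
def tripleRels : List (List ℕ) := [
  [4, 4],
  [4, 0, 4, 0],
  [5, 2, 1, 3, 3, 1, 3, 1, 3, 4, 2, 0, 2, 0, 2, 2, 0, 3, 1, 1],
  [4, 3, 1, 3, 1, 3, 3, 3, 4, 2, 2, 2, 0, 2, 0, 2, 0, 3, 1, 3, 1, 3, 3, 3, 4, 2, 2, 2, 0, 2, 0, 2, 0, 3, 1, 3, 1, 3, 3, 3, 4, 2, 2, 2, 0, 2, 0, 2, 0]]

/-- The four relators involving `t`. -/
def lastRels : List (List ℕ) := [
  [6, 6, 6, 6, 6],
  [1, 6, 0, 6, 6],
  [7, 3, 6, 2],
  [4, 6, 4, 6, 4, 6]]

/-- The relator killing the central involution. -/
def squareWord : List ℕ := [0, 0]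

/-- The word spanning the possible kernel above the unitary group. -/
def centralWord : List ℕ := [1, 2, 2, 1, 3, 1, 3, 1, 2, 2, 0, 3, 3, 0, 2, 0, 2, 0, 3, 3]

end CfsgLib.Spor.HN
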