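import Cfsg.Agent.Lib.Spor.HN.Triple
import Cfsg.Agent.Lib.Spor.HN.SquareCentre.All
import Cfsg.Agent.Lib.Spor.HN.Rep.Main
import Cfsg.Prelude.Def_Spor_Conway
import Cfsg.Prelude.Def_SporadicB

/-!
In the presented Harada–Norton group the subgroup spanned by `x`, `y`, `z` is the presented group on the ten
relators without `t`, and it has the double cover of HS as a normal subgroup of index two.
-/

set_option autoImplicit false
set_option maxRecDepth 100000

namespace CfsgLib.Spor.HN

open CfsgLib.Spor CfsgLib.Spor.TC Cfsg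
open scoped commutatorElement

/-- An isomorphic copy of a double cover. -/
theorem isNonsplitDoubleCover_congr {H H' K : Type*} [Group H] [Group H'] [Group K] (e : H ≃* H')
    (h : IsNonsplitDoubleCover H K) : IsNonsplitDoubleCover H' K := by
  obtain ⟨hc, ⟨q⟩, hno⟩ := h
  have hmap : (Subgroup.center H).map e.toMonoidHom = Subgroup.center H' := by
    ext v
    simp only [Subgroup.mem_map, Subgroup.mem_center_iff]
    constructor
    · rintro ⟨u, hu, rfl⟩ g
      obtain ⟨g, rfl⟩ := e.surjective g
      show e g * e u = e u * e g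
      rw [← map_mul, ← map_mul, hu]
    · intro hv
      refine ⟨e.symm v, fun g => ?_, e.apply_symm_apply v⟩
      apply e.injective
      rw [map_mul, map_mul, e.apply_symm_apply, hv]
  refine ⟨?_, ⟨(QuotientGroup.congr _ _ e hmap).symm.trans q⟩, fun L hL => ?_⟩
  · rw [← hmap, Subgroup.card_map_of_injective e.injective, hc]
  · refine hno (L.comap e.toMonoidHom) ?_
    rw [Subgroup.isComplement'_def, Subgroup.isComplement_iff_bijective] at hL ⊢
    constructor
    · intro ⟨⟨a, ha⟩, ⟨b, hb⟩⟩ ⟨⟨a', ha'⟩, ⟨b', hb'⟩⟩ heq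
      have h1 := @hL.1 ⟨⟨e a, hmap ▸ Subgroup.mem_map_of_mem _ ha⟩, ⟨e b, hb⟩⟩
        ⟨⟨e a', hmap ▸ Subgroup.mem_map_of_mem _ ha'⟩, ⟨e b', hb'⟩⟩ (by
          show e a * e b = e a' * e b'
          rw [← map_mul, ← map_mul]
          exact congrArg e heq)
      simp only [Prod.mk.injEq, Subtype.mk.injEq, EmbeddingLike.apply_eq_iff_eq] at h1
      simp only [Prod.mk.injEq, Subtype.mk.injEq]
      exact ⟨h1.1, e.injective (congrArg Subtype.val h1.2)⟩
    · intro g
      obtain ⟨⟨⟨a, ha⟩, ⟨b, hb⟩⟩, hab⟩ := hL.2 (e g)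
      have ha' : e.symm a ∈ Subgroup.center H := by
        rw [← hmap, Subgroup.mem_map] at ha
        obtain ⟨u, hu, rfl⟩ := ha
        simpa using hu
      refine ⟨⟨⟨e.symm a, ha'⟩, ⟨e.symm b, by simpa using hb⟩⟩, e.injective ?_⟩
      show e (e.symm a * e.symm b) = e g
      rw [map_mul, e.apply_symm_apply, e.apply_symm_apply]
      exact hab

/-- The presentation on `x`, `y`, `z`. -/
def tripleSet : Set (FreeGroup (Fin 3)) :=
  {r | ∃ w ∈ pairRels ++ tripleRels, r = ev (letterVal [FreeGroup.of 0, FreeGroup.of 1, FreeGroup.of 2]) w}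

/-- The group presented on `x`, `y`, `z`. -/
abbrev Triple : Type := PresentedGroup tripleSet

/-- The generators. -/
def tx : Triple := PresentedGroup.of 0

/-- See `tx`. -/
def ty : Triple := PresentedGroup.of 1

/-- See `tx`. -/
def tz : Triple := PresentedGroup.of 2

theorem triple_rels : ∀ r ∈ pairRels ++ tripleRels, ev (letterVal [tx, ty, tz]) r = 1 := by
  intro r hr
  have h : PresentedGroup.mk tripleSet
      (ev (letterVal [FreeGroup.of 0, FreeGroup.of 1, FreeGroup.of 2]) r) = 1 :=
    PresentedGroup.one_of_mem ⟨r, hr, rfl⟩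
  rwa [map_ev_letterVal] at h

/-- The map to a group satisfying the relations. -/
noncomputable def tripleHom {H : Type*} [Group H] (a b c : H)
    (h : ∀ r ∈ pairRels ++ tripleRels, ev (letterVal [a, b, c]) r = 1) : Triple →* H :=
  PresentedGroup.toGroup (f := ![a, b, c]) (by
    rintro r ⟨w, hw, rfl⟩
    rw [map_ev_letterVal]
    simpa using h w hw)

theorem tripleHom_gens {H : Type*} [Group H] (a b c : H)
    (h : ∀ r ∈ pairRels ++ tripleRels, ev (letterVal [a, b, c]) r = 1) :
    tripleHom a b c h tx = a ∧ tripleHom a b c h ty = b ∧ tripleHom a b c h tz = c :=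
  ⟨PresentedGroup.toGroup.of _, PresentedGroup.toGroup.of _, PresentedGroup.toGroup.of _⟩

theorem closure_triple : Subgroup.closure ({tx, ty, tz} : Set Triple) = ⊤ := by
  rw [eq_top_iff, ← PresentedGroup.closure_range_of]
  refine (Subgroup.closure_le _).2 ?_
  rintro g ⟨i, rfl⟩
  fin_cases i <;> exact Subgroup.subset_closure (by simp [tx, ty, tz])

theorem square_order : (tx * tx) * (tx * tx) = 1 := by
  have e : SquareCentre.cert.rels = pairRels ++ tripleRels := by decide +kernel
  have hs : SquareCentre.cert.subs = [] := rfl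
  have h := Cert.mem_of_sTrace SquareCentre.steps_ok SquareCentre.trace0 (letterVal [tx, ty, tz])
    (fun x => letterVal_inv [tx, ty, tz] x) (letterVal_of_le le_rfl) (e ▸ triple_rels) (⊥ : Subgroup Triple)
    (by rw [hs]; exact fun r hr => absurd hr List.not_mem_nil)
  rw [Subgroup.mem_bot] at h
  simpa [ev, letterVal, mul_assoc] using h

theorem square_central : tx * tx ∈ Subgroup.center Triple := by
  have hi : (tx * tx)⁻¹ = tx * tx := inv_eq_of_mul_eq_one_right square_order
  have h1 : tx * tx * ty * (tx * tx) * ty⁻¹ = 1 := by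
    have := triple_rels [0, 0, 2, 0, 0, 3] (by decide)
    simpa [ev, letterVal, mul_assoc] using this
  have h2 : tz * tz = 1 := by
    have := triple_rels [4, 4] (by decide)
    simpa [ev, letterVal] using this
  have h3 : tz * tx * tz * tx = 1 := by
    have := triple_rels [4, 0, 4, 0] (by decide)
    simpa [ev, letterVal, mul_assoc] using this
  rw [Subgroup.mem_center_iff]
  intro g
  have hg : g ∈ Subgroup.centralizer {tx * tx} := by
    refine (closure_triple ▸ (Subgroup.closure_le _).2 ?_ : (⊤ : Subgroup Triple) ≤ _) (Subgroup.mem_top g)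
    have hy : ty * (tx * tx) = tx * tx * ty := by
      calc ty * (tx * tx) = (tx * tx)⁻¹ * (tx * tx * ty * (tx * tx) * ty⁻¹) * ty := by group
        _ = tx * tx * ty := by rw [h1, mul_one, hi]
    have hz : tz * (tx * tx) = tx * tx * tz := by
      have e : tz * tx * tz = tx⁻¹ := eq_inv_of_mul_eq_one_left h3
      calc tz * (tx * tx) = (tz * tx * tz) * ((tz⁻¹ * tz⁻¹) * (tz * tx * tz)) * tz⁻¹ := by group
        _ = tx⁻¹ * tx⁻¹ * tz := by
          rw [← mul_inv_rev, h2, e, inv_one, one_mul, inv_eq_of_mul_eq_one_right h2]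
        _ = tx * tx * tz := by rw [← mul_inv_rev, hi]
    rintro u (rfl | rfl | rfl) <;> rw [SetLike.mem_coe, Subgroup.mem_centralizer_singleton_iff]
    · rw [mul_assoc]
    · exact hy
    · exact hz
  exact Subgroup.mem_centralizer_singleton_iff.1 hg

/-- The map onto the extension of HS by an outer involution. -/
noncomputable def permHom : Triple →* Equiv.Perm (Fin 100) :=
  tripleHom px py pz fun r hr => rels_spec r (List.mem_append_left _ hr)

theorem permHom_facts : permHom.ker = Subgroup.zpowers (tx * tx) ∧ HSPerm.P ≤ permHom.range ∧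
    Nat.card permHom.range = 88704000 := by
  obtain ⟨hx, hy, hz⟩ := tripleHom_gens px py pz fun r hr => rels_spec r (List.mem_append_left _ hr)
  set N := Subgroup.zpowers (tx * tx) with hN
  have : N.Normal := ⟨fun n hn g => by
    obtain ⟨k, rfl⟩ := Subgroup.mem_zpowers_iff.1 hn
    have e : g * (tx * tx) ^ k * g⁻¹ = (tx * tx) ^ k := by
      have := Subgroup.mem_center_iff.1 (Subgroup.zpow_mem _ square_central k) g
      rw [this, mul_inv_cancel_right]
    rw [e]
    exact hn⟩
  have hle : N ≤ permHom.ker := by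
    refine Subgroup.zpowers_le.2 ?_
    rw [MonoidHom.mem_ker, map_mul, show permHom tx = px from hx]
    exact Equiv.ext img_inverse.1
  let q := QuotientGroup.mk' N
  let f : Triple ⧸ N →* Equiv.Perm (Fin 100) := QuotientGroup.lift N permHom hle
  obtain ⟨hinj, hP, hcard⟩ := injective_of_relations (a := q tx) (b := q ty) (c := q tz)
    (fun r hr => by
      rw [show [q tx, q ty, q tz] = [tx, ty, tz].map q from rfl, ← map_ev_letterVal, triple_rels r hr, map_one])
    (by rw [← map_mul]; exact (QuotientGroup.eq_one_iff _).2 (Subgroup.mem_zpowers _))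
    (by
      have := congrArg (Subgroup.map q) closure_triple
      rw [MonoidHom.map_closure, Subgroup.map_top_of_surjective _ (QuotientGroup.mk'_surjective N)] at this
      simpa [Set.image_insert_eq] using this)
    f hx hy hz
  have hr : f.range = permHom.range := by
    ext u
    constructor
    · rintro ⟨v, rfl⟩
      obtain ⟨w, rfl⟩ := QuotientGroup.mk'_surjective N v
      exact ⟨w, rfl⟩
    · rintro ⟨w, rfl⟩
      exact ⟨q w, rfl⟩
  refine ⟨le_antisymm (fun g hg => ?_) hle, hr ▸ hP, hr ▸ hcard⟩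
  exact (QuotientGroup.eq_one_iff g).1 (hinj (by rw [map_one]; exact hg))

theorem index_perm : (HSPerm.P.subgroupOf permHom.range).index = 2 := by
  obtain ⟨-, hP, hcard⟩ := permHom_facts
  have h := Subgroup.index_mul_card (HSPerm.P.subgroupOf permHom.range)
  rw [Nat.card_congr (Subgroup.subgroupOfEquivOfLe hP).toEquiv, HSPerm.card_P, hcard] at h
  exact Nat.eq_of_mul_eq_mul_right (show 0 < 44352000 by norm_num) (h.trans (by norm_num))

/-- The images of the generators in the presented group. -/
noncomputable def hnGen (g : Spor.HN.Gen) : Spor.HN := PresentedGroup.of g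

theorem extra_eq : Spor.HN.extra = (pairRels ++ tripleRels ++ lastRels).map
    (ev (letterVal [Spor.HN.x, Spor.HN.y, Spor.HN.z, Spor.HN.t])) := by
  simp [Spor.HN.extra, pairRels, tripleRels, lastRels, ev, letterVal, pow_succ, mul_assoc]

theorem hn_rels : ∀ r ∈ pairRels ++ tripleRels,
    ev (letterVal [hnGen .x, hnGen .y, hnGen .z]) r = 1 := by
  intro r hr
  have hm : ev (letterVal [Spor.HN.x, Spor.HN.y, Spor.HN.z, Spor.HN.t]) r ∈
      Spor.coxRelators Spor.HN.edges ∪ {r | r ∈ Spor.HN.extra} := by
    refine Or.inr ?_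
    show _ ∈ Spor.HN.extra
    rw [extra_eq]
    exact List.mem_map_of_mem (List.mem_append_left _ hr)
  have h := PresentedGroup.one_of_mem hm
  rw [map_ev_letterVal] at h
  have hlt : ∀ r ∈ pairRels ++ tripleRels, ∀ x ∈ r, x < 6 := by decide +kernel
  refine Eq.trans (congrArg List.prod (List.map_congr_left fun x hx => ?_)) h
  have := hlt r hr x hx
  interval_cases x <;> rfl

/-- The map to the presented Harada–Norton group. -/
noncomputable def hnHom : Triple →* Spor.HN := tripleHom _ _ _ hn_rels

attribute [local irreducible] Rep.gen in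
theorem square_ne_one : hnGen .x * hnGen .x ≠ 1 := by
  intro h
  have hR : ∀ r ∈ Spor.coxRelators Spor.HN.edges ∪ {r | r ∈ Spor.HN.extra},
      FreeGroup.lift Rep.gen r = 1 := by
    rintro r (hr | hr)
    · obtain ⟨u, hu, -⟩ := hr
      simp [Spor.coxNodes, Spor.HN.edges] at hu
    · change r ∈ Spor.HN.extra at hr
      rw [extra_eq] at hr
      obtain ⟨w, hw, rfl⟩ := List.mem_map.1 hr
      rw [map_ev_letterVal, show List.map (FreeGroup.lift Rep.gen) [Spor.HN.x, Spor.HN.y, Spor.HN.z, Spor.HN.t] =
        Rep.letters by simp [Rep.letters]]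
      exact Rep.rels_spec w hw
  have h1 := congrArg (PresentedGroup.toGroup hR) h
  rw [map_mul, map_one, hnGen, PresentedGroup.toGroup.of] at h1
  exact Rep.square_ne h1

theorem hnHom_injective : Function.Injective hnHom := by
  obtain ⟨hx, hy, hz⟩ := tripleHom_gens px py pz fun r hr => rels_spec r (List.mem_append_left _ hr)
  obtain ⟨hker, hP, hcard⟩ := permHom_facts
  have hsq : tx * tx ∉ hnHom.ker := fun h => square_ne_one (by
    rw [MonoidHom.mem_ker, map_mul, show hnHom tx = hnGen .x from (tripleHom_gens _ _ _ hn_rels).1] at h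
    exact h)
  rw [← MonoidHom.ker_eq_bot_iff]
  set M := hnHom.ker with hM
  have hmem : ∀ g ∈ M, permHom g = 1 → g = 1 := by
    intro g hg h1
    rw [← MonoidHom.mem_ker, hker, Subgroup.mem_zpowers_iff] at h1
    obtain ⟨k, rfl⟩ := h1
    rcases Int.even_or_odd k with ⟨j, rfl⟩ | ⟨j, rfl⟩
    · rw [zpow_add, ← (Commute.refl (tx * tx)).mul_zpow, square_order, one_zpow]
    · refine absurd ?_ hsq
      rw [zpow_add, zpow_mul, zpow_two, square_order, one_zpow, one_mul, zpow_one] at hg
      exact hg
  set A := M.map permHom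
  have hA : ∀ u ∈ A, ∀ v ∈ permHom.range, v * u * v⁻¹ ∈ A := by
    rintro _ ⟨m, hm, rfl⟩ _ ⟨w, rfl⟩
    exact ⟨w * m * w⁻¹, hnHom.normal_ker.conj_mem m hm w, by simp⟩
  have hPn : ∀ u ∈ HSPerm.P, ∀ v ∈ permHom.range, v * u * v⁻¹ ∈ HSPerm.P := by
    have hidx := index_perm
    intro u hu v hv
    exact (Subgroup.normal_of_index_eq_two hidx).conj_mem ⟨u, hP hu⟩ hu ⟨v, hv⟩
  have hAP : A ⊓ HSPerm.P = ⊥ := by
    have := simple_perm
    have hn : ((A ⊓ HSPerm.P).subgroupOf HSPerm.P).Normal :=
      ⟨fun u hu v => Subgroup.mem_inf.2 ⟨hA (u : Equiv.Perm (Fin 100)) hu.1 (v : Equiv.Perm (Fin 100)) (hP v.2),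
        HSPerm.P.mul_mem (HSPerm.P.mul_mem v.2 hu.2) (HSPerm.P.inv_mem v.2)⟩⟩
    rcases hn.eq_bot_or_eq_top with h | h
    · rw [Subgroup.subgroupOf_eq_bot, disjoint_iff, inf_assoc, inf_idem] at h
      exact h
    · exfalso
      obtain ⟨m, hm, hmx⟩ : permHom tx ∈ A := by
        rw [show permHom tx = px from hx]
        exact ((Subgroup.subgroupOf_eq_top.1 h) px_mem).1
      have hk : m⁻¹ * tx ∈ permHom.ker := by
        rw [MonoidHom.mem_ker, map_mul, map_inv, hmx, inv_mul_cancel]
      rw [hker, Subgroup.mem_zpowers_iff] at hk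
      obtain ⟨k, hk⟩ := hk
      rw [eq_inv_mul_iff_mul_eq] at hk
      refine hsq ?_
      have hcm : Commute m ((tx * tx) ^ k) :=
        Subgroup.mem_center_iff.1 (Subgroup.zpow_mem _ square_central k) m
      have e : tx * tx = m * m := by
        calc tx * tx = m * (tx * tx) ^ k * (m * (tx * tx) ^ k) := by rw [hk]
          _ = m * m * ((tx * tx) ^ k * (tx * tx) ^ k) := hcm.symm.mul_mul_mul_comm m _
          _ = m * m := by rw [← (Commute.refl (tx * tx)).mul_zpow, square_order, one_zpow, mul_one]
      rw [e]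
      exact mul_mem hm hm
  refine (Subgroup.eq_bot_iff_forall _).2 fun g hg => hmem g hg ?_
  have hgA : permHom g ∈ A := ⟨g, hg, rfl⟩
  have hcP : ∀ u ∈ HSPerm.P, permHom g * u = u * permHom g := by
    intro u hu
    have h1 : ⁅permHom g, u⁆ ∈ A ⊓ HSPerm.P := by
      rw [commutatorElement_def]
      refine Subgroup.mem_inf.2 ⟨?_, HSPerm.P.mul_mem (hPn u hu (permHom g) ⟨g, rfl⟩) (HSPerm.P.inv_mem hu)⟩
      rw [mul_assoc, mul_assoc, ← mul_assoc u]
      exact A.mul_mem hgA (hA (permHom g)⁻¹ (A.inv_mem hgA) u (hP hu))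
    rw [hAP, Subgroup.mem_bot, commutatorElement_eq_one_iff_mul_comm] at h1
    exact h1
  by_cases hgP : permHom g ∈ HSPerm.P
  · have : permHom g ∈ A ⊓ HSPerm.P := ⟨hgA, hgP⟩
    rwa [hAP, Subgroup.mem_bot] at this
  refine eq_one_of_commute fun u hu => ?_
  simp only [List.mem_cons, List.not_mem_nil, or_false] at hu
  rcases hu with rfl | rfl | rfl
  · exact hcP _ px_mem
  · exact hcP _ py_mem
  · have hzr : pz ∈ permHom.range := ⟨tz, hz⟩
    have hidx := index_perm
    have hp : (⟨permHom g, g, rfl⟩ : permHom.range) * ⟨pz, hzr⟩ ∈ HSPerm.P.subgroupOf permHom.range :=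
      (Subgroup.mul_mem_iff_of_index_two hidx).2 ⟨fun h => absurd h hgP, fun h => absurd h pz_not_mem⟩
    have hc : permHom g * (permHom g * pz) = permHom g * pz * permHom g := hcP (permHom g * pz) hp
    rw [mul_assoc (permHom g) pz] at hc
    exact mul_left_cancel hc

theorem range_hnHom : hnHom.range =
    (Subgroup.closure ({Spor.HN.x, Spor.HN.y, Spor.HN.z} : Set (FreeGroup Spor.HN.Gen))).map
      (PresentedGroup.mk (Spor.coxRelators Spor.HN.edges ∪ {r | r ∈ Spor.HN.extra})) := by
  obtain ⟨hx, hy, hz⟩ := tripleHom_gens _ _ _ hn_rels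
  rw [MonoidHom.range_eq_map, ← closure_triple, MonoidHom.map_closure, MonoidHom.map_closure]
  refine congrArg Subgroup.closure ?_
  simp only [Set.image_insert_eq, Set.image_singleton]
  rw [show hnHom tx = _ from hx, show hnHom ty = _ from hy, show hnHom tz = _ from hz]
  rfl

/-- The preimage of the simple group. -/
noncomputable def coverSub : Subgroup Triple := HSPerm.P.comap permHom

theorem index_coverSub : coverSub.index = 2 := by
  rw [coverSub, Subgroup.index_comap]
  exact index_perm

theorem tx_mem : tx ∈ coverSub := by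
  have h := (tripleHom_gens px py pz fun r hr => rels_spec r (List.mem_append_left _ hr)).1
  show permHom tx ∈ HSPerm.P
  rw [show permHom tx = px from h]
  exact px_mem

theorem cover_isDouble : IsNonsplitDoubleCover ↥coverSub ↥Spor.HS := by
  obtain ⟨hker, hP, -⟩ := permHom_facts
  let φ : ↥coverSub →* ↥HSPerm.P := (permHom.comp coverSub.subtype).codRestrict HSPerm.P fun g => g.2
  have hφ : Function.Surjective φ := by
    intro u
    obtain ⟨g, hg⟩ := hP u.2
    exact ⟨⟨g, show permHom g ∈ HSPerm.P from hg ▸ u.2⟩, Subtype.ext hg⟩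
  let z : ↥coverSub := ⟨tx * tx, mul_mem tx_mem tx_mem⟩
  have hz : z * z = 1 := Subtype.ext square_order
  have hzne : z ≠ 1 := fun h => square_ne_one (by
    have := congrArg (fun u : ↥coverSub => hnHom u) h
    simp only [z, OneMemClass.coe_one, map_one, map_mul] at this
    rwa [show hnHom tx = hnGen .x from (tripleHom_gens _ _ _ hn_rels).1] at this)
  have hkerφ : φ.ker = Subgroup.zpowers z := by
    refine le_antisymm (fun g hg => ?_) (Subgroup.zpowers_le.2 ?_)
    · have h : (g : Triple) ∈ permHom.ker := MonoidHom.mem_ker.2 (congrArg Subtype.val (MonoidHom.mem_ker.1 hg))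
      rw [hker, Subgroup.mem_zpowers_iff] at h
      obtain ⟨k, hk⟩ := h
      exact ⟨k, Subtype.ext (by rw [← hk]; rfl)⟩
    · refine MonoidHom.mem_ker.2 (Subtype.ext ?_)
      show permHom (tx * tx) = 1
      rw [← MonoidHom.mem_ker, hker]
      exact Subgroup.mem_zpowers _
  have hcenter : Subgroup.center ↥coverSub = φ.ker := by
    refine le_antisymm (fun g hg => MonoidHom.mem_ker.2 ?_) ?_
    · have hc : ∀ u : ↥HSPerm.P, u * φ g = φ g * u := fun u => by
        obtain ⟨v, rfl⟩ := hφ u
        rw [← map_mul, ← map_mul, Subgroup.mem_center_iff.1 hg v]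
      have := simple_perm
      rcases (inferInstance : (Subgroup.center ↥HSPerm.P).Normal).eq_bot_or_eq_top with h | h
      · have hm : φ g ∈ Subgroup.center ↥HSPerm.P := Subgroup.mem_center_iff.2 hc
        rwa [h, Subgroup.mem_bot] at hm
      · exfalso
        refine noncommute_check ?_
        have hm : (⟨px, px_mem⟩ : ↥HSPerm.P) ∈ Subgroup.center ↥HSPerm.P := h ▸ Subgroup.mem_top _
        exact congrArg (fun u : ↥HSPerm.P => (u : Equiv.Perm (Fin 100)) 0)
          (Subgroup.mem_center_iff.1 hm ⟨py, py_mem⟩).symm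
    · rw [hkerφ]
      exact Subgroup.zpowers_le.2 (Subgroup.mem_center_iff.2 fun g =>
        Subtype.ext (Subgroup.mem_center_iff.1 square_central g))
  have hord : orderOf z = 2 := orderOf_eq_prime (by rw [pow_two]; exact hz) hzne
  refine ⟨by rw [hcenter, hkerφ, Nat.card_zpowers, hord], ?_, fun L hL => ?_⟩
  · obtain ⟨e⟩ := HSPerm.nonempty_equiv_HS
    exact ⟨((QuotientGroup.quotientMulEquivOfEq hcenter).trans
      (QuotientGroup.quotientKerEquivOfSurjective φ hφ)).trans e.symm⟩
  · have hidx : L.index = 2 := by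
      rw [hL.index_eq_card, hcenter, hkerφ, Nat.card_zpowers, hord]
    have hzL : z ∈ L := Subgroup.mul_self_mem_of_index_two hidx ⟨tx, tx_mem⟩
    have hzC : z ∈ Subgroup.center ↥coverSub := by
      rw [hcenter, hkerφ]
      exact Subgroup.mem_zpowers z
    exact hzne (Subgroup.disjoint_def.1 hL.disjoint hzC hzL)

/-- The subgroup of the presented group spanned by `x`, `y`, `z` has the double cover of HS with index two. -/
theorem exists_double_cover : ∃ K : Subgroup ((Subgroup.closure
      ({Spor.HN.x, Spor.HN.y, Spor.HN.z} : Set (FreeGroup Spor.HN.Gen))).map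
      (PresentedGroup.mk (Spor.coxRelators Spor.HN.edges ∪ {r | r ∈ Spor.HN.extra}))),
    K.Normal ∧ K.index = 2 ∧ IsNonsplitDoubleCover K Spor.HS := by
  let e := (MonoidHom.ofInjective hnHom_injective).trans (MulEquiv.subgroupCongr range_hnHom)
  refine ⟨coverSub.map e.toMonoidHom, ?_, ?_, ?_⟩
  · exact (Subgroup.normal_of_index_eq_two index_coverSub).map _ e.surjective
  · rw [Subgroup.index_map_of_bijective (f := e.toMonoidHom) e.bijective, index_coverSub]
  · exact isNonsplitDoubleCover_congr (e.subgroupMap coverSub) cover_isDouble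

end CfsgLib.Spor.HN
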