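import Cfsg.Agent.Lib.Spor.HN.Words
import Cfsg.Agent.Lib.Spor.HN.DihWord.All
import Cfsg.Agent.Lib.Spor.HN.CubeWord.All
import Cfsg.Agent.Lib.Spor.HN.CommWord.All
import Cfsg.Agent.Lib.Spor.HN.SubIndex.All

/-!
A group spanned by two elements satisfying the six relators and `a² = 1` is an extension of a group of order at most
252000 by the central word `c`, of order dividing three, once it has an image in which `⟨a, b³⟩` is dihedral of
order 24 and `c` is trivial.
-/

set_option autoImplicit false
set_option maxRecDepth 100000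

namespace CfsgLib.Spor.HN

open CfsgLib.Spor.TC

/-- The word conjugated by `x` in the central word. -/
def innerWord : List ℕ := [3, 3, 0, 2, 0, 2, 0, 3, 3]

theorem centralWord_eq : centralWord = [1] ++ revInvOnto 4 innerWord [] ++ [0] ++ innerWord := by decide +kernel

variable {G : Type*} [Group G] {a b : G}

local notation "lv" => letterVal [a, b]

theorem lv_inv (x : ℕ) : lv (invLetter 4 x) = (lv x)⁻¹ := letterVal_inv [a, b] x

theorem lv_four : lv 4 = 1 := letterVal_of_le le_rfl

theorem ev_revInv (l acc : List ℕ) : ev lv (revInvOnto 4 l acc) = (ev lv l)⁻¹ * ev lv acc :=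
  ev_revInvOnto DihWord.cert (g := lv) lv_inv l acc

theorem rels_hold (hU : ∀ r ∈ pairRels, ev lv r = 1) (ha : a * a = 1) :
    ∀ r ∈ pairRels ++ [squareWord], ev lv r = 1 := by
  intro r hr
  rcases List.mem_append.1 hr with h | h
  · exact hU r h
  · obtain rfl := List.mem_singleton.1 h
    simpa [ev, squareWord, letterVal] using ha

theorem pow_twelve (hU : ∀ r ∈ pairRels, ev lv r = 1) (ha : a * a = 1) : (a * b ^ 3) ^ 12 = 1 := by
  have e : DihWord.cert.rels = pairRels ++ [squareWord] := by decide +kernel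
  have hs : DihWord.cert.subs = [] := rfl
  have h := Cert.mem_of_sTrace DihWord.steps_ok DihWord.trace0 lv lv_inv lv_four (e ▸ rels_hold hU ha)
    (⊥ : Subgroup G) (by rw [hs]; exact fun r hr => absurd hr (List.not_mem_nil))
  rw [Subgroup.mem_bot] at h
  simpa [ev, letterVal, pow_succ, mul_assoc] using h

/-- A group spanned by an involution `a` and an element inverted by it. -/
theorem mem_dih {r : G} (hr : r ^ 12 = 1) (ha : a * a = 1) (har : a * r * a = r⁻¹) {g : G}
    (hg : g ∈ Subgroup.closure ({a, r} : Set G)) : ∃ i < 12, g = r ^ i ∨ g = r ^ i * a := by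
  have red : ∀ i, r ^ i = r ^ (i % 12) := fun i => by
    conv_lhs => rw [← Nat.mod_add_div i 12, pow_add, pow_mul, hr, one_pow, mul_one]
  have hinv : r⁻¹ = r ^ 11 := inv_eq_of_mul_eq_one_right (by rw [← pow_succ']; exact hr)
  have hflip : ∀ i : ℕ, a * r ^ i = r ^ (11 * i) * a := fun i => by
    have h : (a * r * a) ^ i = a * r ^ i * a := by
      induction i with
      | zero => simpa using ha.symm
      | succ i ih => rw [pow_succ, ih, pow_succ]; simp only [mul_assoc]; rw [← mul_assoc a a, ha, one_mul]
    rw [har, hinv, ← pow_mul] at h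
    rw [h, mul_assoc, ha, mul_one]
  have main : ∃ i, g = r ^ i ∨ g = r ^ i * a := by
    have step : ∀ x ∈ ({a, r} : Set G), ∀ y : G, (∃ i, y = r ^ i ∨ y = r ^ i * a) →
        ∃ i, x * y = r ^ i ∨ x * y = r ^ i * a := by
      rintro x (rfl | rfl) y ⟨i, rfl | rfl⟩
      · exact ⟨11 * i, Or.inr (hflip i)⟩
      · exact ⟨11 * i, Or.inl (by rw [← mul_assoc, hflip, mul_assoc, ha, mul_one])⟩
      · exact ⟨i + 1, Or.inl (by rw [pow_succ'])⟩
      · exact ⟨i + 1, Or.inr (by rw [pow_succ', mul_assoc])⟩
    induction hg using Subgroup.closure_induction_left with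
    | one => exact ⟨0, Or.inl (pow_zero r).symm⟩
    | mul_left x hx y _ ih => exact step x hx y ih
    | inv_mul_cancel x hx y _ ih =>
      rcases hx with rfl | rfl
      · rw [inv_eq_of_mul_eq_one_right ha]; exact step x (Or.inl rfl) y ih
      · obtain ⟨i, rfl | rfl⟩ := ih
        · exact ⟨11 + i, Or.inl (by rw [hinv, pow_add])⟩
        · exact ⟨11 + i, Or.inr (by rw [hinv, pow_add, mul_assoc])⟩
  obtain ⟨i, h⟩ := main
  exact ⟨i % 12, Nat.mod_lt _ (by norm_num), by rw [← red]; exact h⟩

theorem flip_dih (hb : b ^ 6 = 1) (ha : a * a = 1) : a * (a * b ^ 3) * a = (a * b ^ 3)⁻¹ := by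
  have e : (b ^ 3)⁻¹ = b ^ 3 := inv_eq_of_mul_eq_one_right (by rw [← pow_add]; exact hb)
  rw [mul_inv_rev, e, inv_eq_of_mul_eq_one_right ha, ← mul_assoc, ha, one_mul]

theorem pow_six (hU : ∀ r ∈ pairRels, ev lv r = 1) : b ^ 6 = 1 := by
  have h := hU [2, 2, 2, 2, 2, 2] (by decide)
  simpa [ev, letterVal, pow_succ, mul_assoc] using h

theorem closure_dih (a b : G) :
    Subgroup.closure ({a, b ^ 3} : Set G) ≤ Subgroup.closure {a, a * b ^ 3} := by
  refine (Subgroup.closure_le _).2 ?_
  rintro x (rfl | rfl)
  · exact Subgroup.subset_closure (Or.inl rfl)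
  · have hm : ∀ y ∈ ({a, a * b ^ 3} : Set G), y ∈ Subgroup.closure ({a, a * b ^ 3} : Set G) :=
      fun y hy => Subgroup.subset_closure hy
    have h := mul_mem (inv_mem (hm a (by simp))) (hm (a * b ^ 3) (by simp))
    rwa [inv_mul_cancel_left] at h

/-- The central word. -/
def centre (a b : G) : G := ev (letterVal [a, b]) centralWord

theorem centre_flip (ha : a * a = 1) : a * centre a b * a = (centre a b)⁻¹ := by
  have hi := inv_eq_of_mul_eq_one_right ha
  have e : centre a b = a * (ev lv innerWord)⁻¹ * a * ev lv innerWord := by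
    rw [centre, centralWord_eq, ev_append, ev_append, ev_append,
      ev_revInv]
    simp [ev, letterVal, hi, mul_assoc]
  rw [e]
  simp only [mul_inv_rev, inv_inv, hi, mul_assoc]
  rw [← mul_assoc a a, ha, one_mul]

section image

variable {Q : Type*} [Group Q] (f : G →* Q)

theorem centre_facts (hU : ∀ r ∈ pairRels, ev lv r = 1) (ha : a * a = 1) (hfc : f (centre a b) = 1)
    (hfree : ∀ i < 12, (i ≠ 0 → (f a * f b ^ 3) ^ i ≠ 1) ∧ (f a * f b ^ 3) ^ i * f a ≠ 1) :
    centre a b ^ 3 = 1 ∧ b * centre a b * b⁻¹ = centre a b := by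
  have key : ∀ g ∈ Subgroup.closure ({a, b ^ 3} : Set G), f g = 1 → g = 1 := by
    intro g hg h1
    obtain ⟨i, hi, rfl | rfl⟩ := mem_dih (pow_twelve hU ha) ha (flip_dih (pow_six hU) ha) (closure_dih a b hg)
    · by_cases h0 : i = 0
      · simp [h0]
      · exact absurd (by simpa using h1) ((hfree i hi).1 h0)
    · exact absurd (by simpa using h1) (hfree i hi).2
  have hsubs : ∀ r ∈ ([[0], [2, 2, 2]] : List (List ℕ)), ev lv r ∈ Subgroup.closure ({a, b ^ 3} : Set G) := by
    intro r hr
    simp only [List.mem_cons, List.not_mem_nil, or_false] at hr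
    rcases hr with rfl | rfl
    · exact Subgroup.subset_closure (by simp [ev, letterVal])
    · exact Subgroup.subset_closure (by simp [ev, letterVal, pow_succ, mul_assoc])
  constructor
  · have e : CubeWord.cert.rels = pairRels ++ [squareWord] := by decide +kernel
    have h := Cert.mem_of_sTrace CubeWord.steps_ok CubeWord.trace0 lv lv_inv lv_four (e ▸ rels_hold hU ha)
      (Subgroup.closure {a, b ^ 3}) hsubs
    have e2 : centre a b ^ 3 = ev lv (centralWord ++ centralWord ++ centralWord) := by
      rw [ev_append, ev_append, pow_succ, pow_succ, pow_one]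
      rfl
    rw [e2]
    exact key _ h (by rw [← e2, map_pow, hfc, one_pow])
  · have e : CommWord.cert.rels = pairRels ++ [squareWord] := by decide +kernel
    have h := Cert.mem_of_sTrace CommWord.steps_ok CommWord.trace0 lv lv_inv lv_four (e ▸ rels_hold hU ha)
      (Subgroup.closure {a, b ^ 3}) hsubs
    have e2 : b * centre a b * b⁻¹ * (centre a b)⁻¹ =
        ev lv ([2] ++ centralWord ++ [3] ++ revInvOnto 4 centralWord []) := by
      rw [ev_append, ev_append, ev_append, ev_revInv]
      simp [ev, letterVal, centre]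
    rw [← mul_inv_eq_one, e2]
    exact key _ h (by rw [← e2, map_mul, map_mul, map_mul, map_inv, map_inv, hfc]; simp)

end image

theorem card_pair (hU : ∀ r ∈ pairRels, ev lv r = 1) (ha : a * a = 1)
    (hgen : Subgroup.closure ({a, b} : Set G) = ⊤) (hc3 : centre a b ^ 3 = 1)
    (hcb : b * centre a b * b⁻¹ = centre a b) :
    (Subgroup.zpowers (centre a b)).Normal ∧ Finite G ∧
      Nat.card G ≤ 252000 * Nat.card (Subgroup.zpowers (centre a b)) := by
  set c := centre a b
  have hfl : a * c * a⁻¹ = c⁻¹ := by rw [inv_eq_of_mul_eq_one_right ha]; exact centre_flip ha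
  have hN : (Subgroup.zpowers c).Normal := by
    refine ⟨fun n hn g => ?_⟩
    have hg : g ∈ Subgroup.closure ({a, b} : Set G) := hgen ▸ Subgroup.mem_top g
    revert n
    induction hg using Subgroup.closure_induction'' with
    | mem x hx =>
      intro n hn
      obtain ⟨k, rfl⟩ := Subgroup.mem_zpowers_iff.1 hn
      rcases hx with rfl | rfl
      · rw [← conj_zpow, hfl]
        exact Subgroup.zpow_mem _ (inv_mem (Subgroup.mem_zpowers c)) k
      · rw [← conj_zpow, hcb]
        exact Subgroup.zpow_mem _ (Subgroup.mem_zpowers c) k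
    | inv_mem x hx =>
      intro n hn
      obtain ⟨k, rfl⟩ := Subgroup.mem_zpowers_iff.1 hn
      rw [inv_inv]
      rcases hx with rfl | rfl
      · rw [show x⁻¹ * c ^ k * x = x * c ^ k * x⁻¹ by rw [inv_eq_of_mul_eq_one_right ha], ← conj_zpow, hfl]
        exact Subgroup.zpow_mem _ (inv_mem (Subgroup.mem_zpowers c)) k
      · have : x⁻¹ * c * x = c := by
          conv_lhs => rw [← hcb]
          group
        have e2 := conj_zpow (i := k) (a := x⁻¹) (b := c)
        rw [inv_inv, this] at e2
        rw [← e2]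
        exact Subgroup.zpow_mem _ (Subgroup.mem_zpowers c) k
    | one => intro n hn; simpa using hn
    | mul u v _ _ hu hv =>
      intro n hn
      have := hu _ (hv n hn)
      simpa [mul_assoc] using this
  have : (Subgroup.zpowers c).Normal := hN
  have : Finite (Subgroup.zpowers c) := by
    refine Nat.finite_of_card_ne_zero ?_
    rw [Nat.card_zpowers]
    exact (IsOfFinOrder.orderOf_pos (isOfFinOrder_iff_pow_eq_one.2 ⟨3, by norm_num, hc3⟩)).ne'
  let q := QuotientGroup.mk' (Subgroup.zpowers c)
  let lw := letterVal [q a, q b]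
  have hmap : ∀ w, q (ev lv w) = ev lw w := fun w => map_ev_letterVal q [a, b] w
  have e : SubIndex.cert.rels = pairRels ++ [squareWord] ++ [centralWord] := by decide +kernel
  have hR : ∀ r ∈ SubIndex.cert.rels, ev lw r = 1 := by
    rw [e]
    intro r hr
    rw [← hmap]
    rcases List.mem_append.1 hr with h | h
    · rw [rels_hold hU ha r h, map_one]
    · obtain rfl := List.mem_singleton.1 h
      exact (QuotientGroup.eq_one_iff _).2 (Subgroup.mem_zpowers c)
  have htop : Subgroup.closure ({q a, q b} : Set (G ⧸ Subgroup.zpowers c)) = ⊤ := by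
    rw [← Set.image_pair, ← MonoidHom.map_closure, hgen,
      Subgroup.map_top_of_surjective _ (QuotientGroup.mk'_surjective _)]
  set D := Subgroup.closure ({q a, q b ^ 3} : Set (G ⧸ Subgroup.zpowers c))
  have hindex : D.index ≠ 0 ∧ D.index ≤ 10500 := by
    refine Cert.index_le_signed SubIndex.steps_ok SubIndex.rows_ok SubIndex.row_zero (by norm_num) lw
      (fun x => letterVal_inv [q a, q b] x) (letterVal_of_le le_rfl) (fun x hx => invLetter_lt rfl hx) ?_ hR D ?_
    · refine top_le_iff.1 (htop ▸ (Subgroup.closure_le _).2 ?_)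
      rintro x (rfl | rfl)
      · exact Subgroup.subset_closure ⟨0, by decide, by simp [lw, letterVal]⟩
      · exact Subgroup.subset_closure ⟨2, by decide, by simp [lw, letterVal]⟩
    · intro r hr
      rw [show SubIndex.cert.subs = [[0], [2, 2, 2]] from rfl] at hr
      simp only [List.mem_cons, List.not_mem_nil, or_false] at hr
      rcases hr with rfl | rfl
      · exact Subgroup.subset_closure (by simp [ev, lw, letterVal])
      · exact Subgroup.subset_closure (by simp [ev, lw, letterVal, pow_succ, mul_assoc])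
  have hUq : ∀ r ∈ pairRels, ev lw r = 1 := fun r hr => by rw [← hmap, hU r hr, map_one]
  have haq : q a * q a = 1 := by rw [← map_mul, ha, map_one]
  let enum : Fin 12 × Bool → G ⧸ Subgroup.zpowers c :=
    fun p => (q a * q b ^ 3) ^ p.1.1 * if p.2 then q a else 1
  have hsub : (D : Set (G ⧸ Subgroup.zpowers c)) ⊆ Set.range enum := by
    intro g hg
    obtain ⟨i, hi, rfl | rfl⟩ := mem_dih (pow_twelve hUq haq) haq (flip_dih (pow_six hUq) haq)
      (closure_dih _ _ hg)
    · exact ⟨(⟨i, hi⟩, false), by simp [enum]⟩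
    · exact ⟨(⟨i, hi⟩, true), by simp [enum]⟩
  have : Finite D := Set.Finite.to_subtype ((Set.finite_range enum).subset hsub)
  have hD : Nat.card D ≤ 24 := by
    calc Nat.card D ≤ Nat.card (Set.range enum) := Nat.card_mono (Set.finite_range enum) hsub
      _ ≤ Nat.card (Fin 12 × Bool) := Finite.card_range_le enum
      _ = 24 := by simp
  have hQ : Nat.card (G ⧸ Subgroup.zpowers c) ≠ 0 ∧ Nat.card (G ⧸ Subgroup.zpowers c) ≤ 252000 := by
    rw [← Subgroup.index_mul_card D]
    exact ⟨mul_ne_zero hindex.1 Nat.card_pos.ne', le_trans (Nat.mul_le_mul hindex.2 hD) (by norm_num)⟩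
  have hcard := Subgroup.card_eq_card_quotient_mul_card_subgroup (Subgroup.zpowers c)
  refine ⟨hN, Nat.finite_of_card_ne_zero (by rw [hcard]; exact mul_ne_zero hQ.1 Nat.card_pos.ne'), ?_⟩
  rw [hcard]
  exact Nat.mul_le_mul_right _ hQ.2

end CfsgLib.Spor.HN
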