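import Mathlib

/-!
The images of `x`, `y`, `z` on the one hundred points of the Higman–Sims graph, and some words in them.
-/

set_option autoImplicit false

namespace CfsgLib.Spor.HN

/-- The images under `x`. -/
def xImg : List ℕ := [17, 23, 48, 19, 93, 86, 27, 8, 7, 14, 30, 15, 66, 81, 9, 11, 45, 0, 38, 3, 67, 36, 97, 1, 94, 65, 77, 6, 33, 79, 10, 62, 39, 28, 74, 57, 21, 42, 18, 32, 90, 92, 37, 87, 83, 16, 70, 73, 2, 99, 55, 64, 76, 75, 98, 50, 72, 35, 60, 78, 58, 85, 31, 71, 51, 25, 12, 20, 82, 91, 46, 63, 56, 47, 34, 53, 52, 26, 59, 29, 84, 13, 68, 44, 80, 61, 5, 43, 95, 96, 40, 69, 41, 4, 24, 88, 89, 22, 54, 49]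

/-- The images under `y`. -/
def yImg : List ℕ := [98, 91, 13, 39, 55, 96, 57, 43, 9, 5, 79, 34, 0, 15, 65, 88, 56, 17, 93, 18, 97, 10, 50, 94, 61, 76, 78, 70, 80, 54, 83, 14, 30, 68, 19, 48, 31, 77, 20, 3, 44, 63, 45, 29, 1, 69, 64, 16, 73, 92, 72, 90, 89, 95, 66, 24, 38, 6, 7, 37, 74, 41, 21, 4, 2, 52, 58, 32, 51, 35, 84, 85, 22, 42, 62, 8, 99, 59, 26, 60, 40, 11, 82, 23, 27, 86, 71, 75, 46, 36, 53, 28, 49, 81, 67, 33, 87, 47, 12, 25]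

/-- The images under the inverse of `y`. -/
def yInvImg : List ℕ := [12, 44, 64, 39, 63, 9, 57, 58, 75, 8, 21, 81, 98, 2, 31, 13, 47, 17, 19, 34, 38, 62, 72, 83, 55, 99, 78, 84, 91, 43, 32, 36, 67, 95, 11, 69, 89, 59, 56, 3, 80, 61, 73, 7, 40, 42, 88, 97, 35, 92, 22, 68, 65, 90, 29, 4, 16, 6, 66, 77, 79, 24, 74, 41, 46, 14, 54, 94, 33, 45, 27, 86, 50, 48, 60, 87, 25, 37, 26, 10, 28, 93, 82, 30, 70, 71, 85, 96, 15, 52, 51, 1, 49, 18, 23, 53, 5, 20, 0, 76]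

/-- The images under `z`. -/
def zImg : List ℕ := [0, 7, 48, 32, 78, 86, 27, 1, 23, 14, 10, 44, 54, 43, 9, 83, 73, 17, 18, 39, 20, 72, 62, 8, 26, 25, 24, 6, 33, 29, 30, 97, 3, 28, 34, 35, 56, 42, 38, 19, 40, 92, 37, 13, 11, 47, 70, 45, 2, 99, 55, 64, 52, 53, 12, 50, 36, 57, 58, 93, 60, 61, 22, 63, 51, 65, 98, 67, 82, 91, 46, 71, 21, 16, 74, 75, 76, 94, 4, 79, 84, 87, 68, 15, 80, 85, 5, 81, 88, 96, 90, 69, 41, 59, 77, 95, 89, 31, 66, 49]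

/-- Words giving the generators of the simple subgroup. -/
def genWords : List (List ℕ) := [
  [5, 2, 5, 2, 2, 5, 3, 3, 1, 3, 5, 3, 3, 5, 3, 5, 1, 2, 2],
  [3, 3, 5, 1, 3, 5, 2, 2, 5, 2, 2, 5, 1, 3, 3, 1, 3, 3, 3, 1],
  [3, 3, 5, 1, 2, 5, 2, 2, 5, 2, 1, 2, 2, 5, 3, 3, 5, 3, 5],
  [3, 5, 2, 5, 2, 2, 5, 2, 1, 3, 1, 3, 3, 3, 5, 1, 2, 5, 2, 5]]

/-- Words moving the point 0 to each point. -/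
def moveWords : List (List ℕ) := [
  [],
  [4, 2, 2, 4, 2],
  [3, 4, 3, 3, 0, 2],
  [4, 3, 0, 3, 0, 3, 0, 2],
  [0, 3, 4, 0, 3, 3, 0, 2],
  [3, 3, 0, 3, 3, 0, 2],
  [2, 0, 3, 0, 3, 4, 3, 3, 0, 2],
  [2, 2, 4, 2],
  [0, 2, 2, 4, 2],
  [2, 0, 2, 2, 4, 2],
  [3, 0, 3, 0, 2],
  [2, 4, 0, 3, 3, 0, 2],
  [3],
  [4, 3, 3, 0, 2],
  [0, 2, 0, 2, 2, 4, 2],
  [2, 4, 3, 3, 0, 2],
  [3, 4, 0, 3, 3, 0, 3, 0, 2],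
  [0],
  [3, 3, 4, 0, 3, 3, 0, 2],
  [2, 0, 2, 0, 2, 4, 2],
  [0, 3, 3, 0, 3, 0, 3, 0, 2],
  [3, 3, 0, 3, 0, 2],
  [4, 2, 2, 0, 2, 4, 2],
  [4, 0, 2, 2, 4, 2],
  [0, 2, 4, 0, 2, 2, 4, 2],
  [0, 2, 0, 2, 0, 2, 2, 4, 2],
  [4, 0, 2, 4, 0, 2, 2, 4, 2],
  [3, 0, 2, 2, 2, 4, 3, 3, 0, 2],
  [2, 2, 4, 2, 2, 4, 2],
  [3, 0, 2],
  [0, 3, 0, 3, 0, 2],
  [0, 2, 2, 0, 2, 4, 2],
  [3, 0, 3, 0, 3, 0, 2],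
  [0, 2, 2, 4, 2, 2, 4, 2],
  [0, 2, 0, 2, 4, 2],
  [3, 0, 3, 4, 3, 3, 0, 2],
  [0, 3, 3, 0, 3, 0, 2],
  [2, 4, 3, 4, 0, 3, 3, 0, 2],
  [2, 4, 0, 3, 3, 0, 3, 0, 2],
  [0, 3, 0, 3, 0, 3, 0, 2],
  [3, 3, 4, 2, 2, 4, 2],
  [3, 3, 0, 3, 4, 0, 3, 3, 0, 2],
  [2, 2, 0, 3, 4, 3, 3, 0, 2],
  [3, 3, 0, 2],
  [3, 4, 2, 2, 4, 2],
  [3, 0, 2, 4, 2, 2, 4, 2],
  [2, 2, 2, 4, 3, 3, 0, 2],
  [0, 2, 0, 3, 4, 3, 3, 0, 2],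
  [0, 3, 4, 3, 3, 0, 2],
  [0, 2, 0, 3, 0, 3, 0, 3, 3, 0, 2],
  [3, 4, 3, 3, 0, 3, 0, 2],
  [0, 3, 3, 4, 3, 3, 0, 2],
  [3, 0, 3, 0, 3, 3, 0, 2],
  [0, 2, 0, 3, 3, 0, 2],
  [0, 2],
  [0, 3, 4, 3, 3, 0, 3, 0, 2],
  [4, 0, 3, 3, 0, 3, 0, 2],
  [0, 3, 0, 3, 4, 3, 3, 0, 2],
  [2, 4, 2],
  [4, 3, 4, 0, 3, 3, 0, 2],
  [0, 2, 4, 2],
  [2, 0, 2, 4, 0, 2, 2, 4, 2],
  [2, 2, 0, 2, 4, 2],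
  [3, 0, 3, 4, 0, 3, 3, 0, 2],
  [3, 3, 4, 3, 3, 0, 2],
  [2, 0, 2, 0, 2, 2, 4, 2],
  [4, 2],
  [3, 3, 0, 3, 0, 3, 0, 2],
  [3, 0, 3, 3, 4, 3, 3, 0, 2],
  [0, 2, 4, 2, 2, 4, 2],
  [0, 2, 2, 2, 4, 3, 3, 0, 2],
  [2, 0, 3, 3, 0, 3, 3, 0, 2],
  [4, 3, 3, 0, 3, 0, 2],
  [2, 0, 3, 4, 3, 3, 0, 2],
  [2, 0, 2, 4, 2],
  [2, 0, 3, 3, 0, 2],
  [0, 3, 0, 3, 0, 3, 3, 0, 2],
  [4, 2, 4, 0, 2, 2, 4, 2],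
  [4, 0, 3, 4, 0, 3, 3, 0, 2],
  [0, 3, 0, 2],
  [2, 2, 2, 4, 2, 2, 4, 2],
  [4, 0, 3, 3, 0, 2],
  [0, 3, 0, 3, 3, 4, 3, 3, 0, 2],
  [2, 0, 3, 0, 3, 0, 2],
  [0, 2, 2, 2, 4, 2, 2, 4, 2],
  [3, 0, 3, 3, 0, 3, 3, 0, 2],
  [0, 3, 3, 0, 3, 3, 0, 2],
  [0, 3, 3, 0, 2],
  [2, 2, 4, 3, 3, 0, 2],
  [0, 3, 0, 3, 3, 0, 2],
  [3, 0, 2, 0, 3, 3, 0, 2],
  [2, 4, 2, 2, 4, 2],
  [0, 3, 3, 0, 3, 4, 0, 3, 3, 0, 2],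
  [3, 4, 0, 3, 3, 0, 2],
  [2, 4, 0, 2, 2, 4, 2],
  [2, 0, 2, 0, 3, 3, 0, 2],
  [3, 0, 3, 3, 0, 2],
  [4, 0, 2, 2, 0, 2, 4, 2],
  [2],
  [2, 0, 3, 0, 3, 0, 3, 3, 0, 2]]

/-- Words fixing the point 0 and no other point in common. -/
def fixWords : List (List ℕ) := [
  [0, 3, 0, 4, 4],
  [3, 5, 3, 4, 2, 0, 4, 0, 4, 4, 0, 4, 3]]

/-- Transversal elements with product `x`, product `y`, and product agreeing with `z` on the base. -/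
def xParts : List ℕ := [116, 455, 440, 357, 401]

/-- See `xParts`. -/
def yParts : List ℕ := [300, 376, 228, 356, 6]

/-- See `xParts`. -/
def zParts : List ℕ := [6, 286, 184, 316, 439]

end CfsgLib.Spor.HN
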