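import Cfsg.Agent.Lib.Spor.HN.Words
import Cfsg.Agent.Lib.Spor.HN.PermData
import Cfsg.Agent.Lib.Spor.HSPerm.Group

/-!
The images of `x`, `y`, `z` on one hundred points: they satisfy the relations, `x` and `y` lie in the simple
group, `z` does not, and only the identity commutes with all three.
-/

set_option autoImplicit false
set_option maxRecDepth 100000

namespace CfsgLib.Spor.HN

open CfsgLib.Spor CfsgLib.Spor.TC

/-- The list of images under a letter. -/
def imgList (x : ℕ) : List ℕ := [xImg, xImg, yImg, yInvImg, zImg, zImg].getD x []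

/-- An image under a letter. -/
def img (x : ℕ) (i : Fin 100) : Fin 100 := HSPerm.pnt ((imgList x).getD i.1 0)

theorem img_inverse : (∀ i, img 0 (img 0 i) = i) ∧ (∀ i, img 2 (img 3 i) = i) ∧ (∀ i, img 3 (img 2 i) = i) ∧
    (∀ i, img 4 (img 4 i) = i) := by
  decide +kernel

/-- The image of `x`. -/
def px : Equiv.Perm (Fin 100) := ⟨img 0, img 0, img_inverse.1, img_inverse.1⟩

/-- The image of `y`. -/
def py : Equiv.Perm (Fin 100) := ⟨img 2, img 3, img_inverse.2.2.1, img_inverse.2.1⟩

/-- The image of `z`. -/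
def pz : Equiv.Perm (Fin 100) := ⟨img 4, img 4, img_inverse.2.2.2, img_inverse.2.2.2⟩

/-- The image of a point under a word. -/
def wordAct (w : List ℕ) (i : Fin 100) : Fin 100 := w.foldr img i

theorem word_apply : ∀ w : List ℕ, (∀ x ∈ w, x < 6) → ∀ i,
    ev (letterVal [px, py, pz]) w i = wordAct w i
  | [], _, i => rfl
  | a :: w, hw, i => by
    rw [ev_cons, Equiv.Perm.mul_apply, word_apply w (fun x hx => hw x (List.mem_cons_of_mem _ hx)) i]
    have := hw a List.mem_cons_self
    interval_cases a <;> rfl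

/-- A word acts trivially. -/
def trivWord (w : List ℕ) : Bool := (List.range 100).all fun i => (wordAct w (HSPerm.pnt i)).1 == i

theorem rels_check : (pairRels ++ tripleRels ++ [squareWord, centralWord]).all trivWord = true ∧
    (pairRels ++ tripleRels ++ [squareWord, centralWord]).all (fun r => r.all fun x => Nat.blt x 6) = true := by
  decide +kernel

theorem rels_spec : ∀ r ∈ pairRels ++ tripleRels ++ [squareWord, centralWord],
    ev (letterVal [px, py, pz]) r = 1 := by
  intro r hr
  have h1 := List.all_eq_true.1 rels_check.1 r hr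
  have h2 := List.all_eq_true.1 rels_check.2 r hr
  simp only [trivWord, List.all_eq_true, List.mem_range, beq_iff_eq] at h1 h2
  refine Equiv.ext fun i => Fin.ext ?_
  rw [word_apply r (fun x hx => Nat.le_of_ble_eq_true (h2 x hx))]
  have := h1 i.1 i.2
  rwa [show HSPerm.pnt i.1 = i from Fin.ext (Nat.mod_eq_of_lt i.2)] at this

theorem free_check : ∀ i : Fin 12, (i.1 ≠ 0 → ∃ j : Fin 100, wordAct (List.flatten (List.replicate i.1 [0, 2, 2, 2])) j ≠ j) ∧
    ∃ j : Fin 100, wordAct (List.flatten (List.replicate i.1 [0, 2, 2, 2]) ++ [0]) j ≠ j := by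
  decide +kernel

theorem free_spec : ∀ i < 12, (i ≠ 0 → (px * py ^ 3) ^ i ≠ 1) ∧ (px * py ^ 3) ^ i * px ≠ 1 := by
  intro i hi
  have e0 : ev (letterVal [px, py, pz]) [0, 2, 2, 2] = px * py ^ 3 := by
    simp [ev, letterVal, pow_succ, mul_assoc]
  have ep : ∀ n, ev (letterVal [px, py, pz]) (List.flatten (List.replicate n [0, 2, 2, 2])) = (px * py ^ 3) ^ n := by
    intro n
    induction n with
    | zero => simp [ev]
    | succ n ih => rw [List.replicate_succ, List.flatten_cons, ev_append, e0, ih, ← pow_succ']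
  have hlt : ∀ n, ∀ x ∈ List.flatten (List.replicate n [0, 2, 2, 2]) ++ [0], x < 6 := by
    intro n x hx
    simp only [List.mem_append, List.mem_flatten, List.mem_replicate, List.mem_singleton] at hx
    rcases hx with ⟨l, ⟨-, rfl⟩, hx⟩ | rfl
    · simp at hx; omega
    · norm_num
  obtain ⟨h1, j, h2⟩ := free_check ⟨i, hi⟩
  refine ⟨fun h0 h => ?_, fun h => ?_⟩
  · obtain ⟨j, hj⟩ := h1 h0
    refine hj ?_
    rw [← word_apply _ (fun x hx => hlt i x (List.mem_append_left _ hx)), ep, h]
    rfl
  · refine h2 ?_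
    rw [← word_apply _ (hlt i), ev_append, ep, show ev (letterVal [px, py, pz]) [0] = px by simp [ev, letterVal], h]
    rfl

theorem gen_check : genWords.length = 4 ∧ genWords.all (fun r => r.all fun x => Nat.blt x 6) = true ∧
    ((List.range 4).all fun k => (List.range 100).all fun i =>
      (wordAct (genWords.getD k []) (HSPerm.pnt i)).1 == HSPerm.look HSPerm.eltRows k i) = true := by
  decide +kernel

/-- A word lies in every subgroup containing the three images. -/
theorem word_mem {H : Subgroup (Equiv.Perm (Fin 100))} (h : ∀ g ∈ [px, py, pz], g ∈ H) (w : List ℕ) :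
    ev (letterVal [px, py, pz]) w ∈ H := by
  refine H.list_prod_mem fun g hg => ?_
  obtain ⟨x, -, rfl⟩ := List.mem_map.1 hg
  unfold letterVal
  have hd : ([px, py, pz] : List (Equiv.Perm (Fin 100))).getD (x / 2) 1 ∈ H := by
    by_cases hx : x / 2 < 3
    · exact h _ (by rw [List.getD_eq_getElem _ _ hx]; exact List.getElem_mem _)
    · rw [List.getD_eq_default _ _ (Nat.le_of_not_lt hx)]; exact H.one_mem
  split_ifs
  · exact hd
  · exact inv_mem hd

theorem simple_le {H : Subgroup (Equiv.Perm (Fin 100))} (h : ∀ g ∈ [px, py, pz], g ∈ H) : HSPerm.P ≤ H := by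
  rw [← HSPerm.closure_genSet]
  refine (Subgroup.closure_le _).2 ?_
  rintro g ⟨-, k, hk, hg⟩
  obtain ⟨hl, hb, hc⟩ := gen_check
  simp only [List.all_eq_true, List.mem_range, beq_iff_eq] at hb hc
  have e : g = ev (letterVal [px, py, pz]) (genWords.getD k []) := by
    refine Equiv.ext fun i => Fin.ext ?_
    rw [hg i, word_apply _ ?_ i]
    · have := hc k hk i.1 i.2
      rw [show HSPerm.pnt i.1 = i from Fin.ext (Nat.mod_eq_of_lt i.2)] at this
      exact this.symm
    · intro x hx
      refine Nat.le_of_ble_eq_true (hb _ ?_ x hx)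
      rw [List.getD_eq_getElem _ _ (by omega)]
      exact List.getElem_mem _
  rw [e]
  exact word_mem h _

/-- The image of a point under a product of packed elements. -/
def partsAct (l : List ℕ) (i : ℕ) : ℕ := l.foldr (HSPerm.look HSPerm.eltRows) i

theorem exists_parts : ∀ l : List ℕ, (∀ n ∈ l, n < 1014) →
    ∃ g ∈ HSPerm.P, ∀ i : Fin 100, (g i).1 = partsAct l i.1
  | [], _ => ⟨1, one_mem _, fun _ => rfl⟩
  | a :: l, hl => by
    obtain ⟨g, hg, hgi⟩ := exists_parts l fun n hn => hl n (List.mem_cons_of_mem _ hn)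
    obtain ⟨e, he, hei⟩ := HSPerm.elt_mem (hl a List.mem_cons_self)
    refine ⟨e * g, mul_mem he hg, fun i => ?_⟩
    rw [Equiv.Perm.mul_apply, hei, hgi]
    rfl

theorem parts_check : (∀ n ∈ xParts ++ yParts ++ zParts, n < 1014) ∧
    (∀ i : Fin 100, (img 0 i).1 = partsAct xParts i.1) ∧ (∀ i : Fin 100, (img 2 i).1 = partsAct yParts i.1) ∧
    (HSPerm.basePts.all fun b => (img 4 (HSPerm.pnt b)).1 == partsAct zParts (HSPerm.pnt b).1) = true ∧
    ∃ i : Fin 100, (img 4 i).1 ≠ partsAct zParts i.1 := by
  decide +kernel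

theorem px_mem : px ∈ HSPerm.P := by
  obtain ⟨hn, hx, -, -, -⟩ := parts_check
  obtain ⟨g, hg, hgi⟩ := exists_parts xParts fun n h => hn n (by simp [h])
  rwa [show px = g from Equiv.ext fun i => Fin.ext ((hx i).trans (hgi i).symm)]

theorem py_mem : py ∈ HSPerm.P := by
  obtain ⟨hn, -, hy, -, -⟩ := parts_check
  obtain ⟨g, hg, hgi⟩ := exists_parts yParts fun n h => hn n (by simp [h])
  rwa [show py = g from Equiv.ext fun i => Fin.ext ((hy i).trans (hgi i).symm)]

theorem pz_not_mem : pz ∉ HSPerm.P := by
  intro h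
  obtain ⟨hn, -, -, hz, i, hi⟩ := parts_check
  obtain ⟨g, hg, hgi⟩ := exists_parts zParts fun n h => hn n (by simp [h])
  have e : pz = g := HSPerm.eq_of_base h hg fun b hb => Fin.ext <| by
    have := List.all_eq_true.1 hz b hb
    simp only [beq_iff_eq] at this
    rw [hgi]
    exact this
  refine hi ?_
  rw [← hgi, ← e]
  rfl

theorem move_check : moveWords.length = 100 ∧
    (moveWords ++ fixWords).all (fun r => r.all fun x => Nat.blt x 6) = true ∧
    ((List.range 100).all fun i => (wordAct (moveWords.getD i []) 0).1 == i) = true ∧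
    (fixWords.all fun r => (wordAct r 0).1 == 0) = true ∧
    ∀ j : Fin 100, (fixWords.all fun r => (wordAct r j).1 == j.1) = true → j = 0 := by
  decide +kernel

/-- Only the identity commutes with the three images. -/
theorem eq_one_of_commute {g : Equiv.Perm (Fin 100)} (h : ∀ u ∈ [px, py, pz], Commute g u) : g = 1 := by
  obtain ⟨hl, hb, hm, hf, hj⟩ := move_check
  simp only [List.all_eq_true, List.mem_range, beq_iff_eq] at hb hm hf hj
  have hC : ∀ w, Commute g (ev (letterVal [px, py, pz]) w) := fun w =>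
    Subgroup.mem_centralizer_iff.1 (word_mem (H := Subgroup.centralizer {g})
      (fun u hu => Subgroup.mem_centralizer_iff.2 (by simpa using (h u hu).eq)) w) g rfl
  have happ : ∀ w, (∀ x ∈ w, x < 6) → g (wordAct w 0) = wordAct w (g 0) := fun w hw => by
    have := congrArg (fun e : Equiv.Perm (Fin 100) => e 0) (hC w).eq
    simp only [Equiv.Perm.mul_apply, word_apply w hw] at this
    exact this
  have hlt : ∀ r ∈ moveWords ++ fixWords, ∀ x ∈ r, x < 6 := fun r hr x hx => Nat.le_of_ble_eq_true (hb r hr x hx)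
  have h0 : g 0 = 0 := by
    refine hj (g 0) fun r hr => ?_
    have := happ r (hlt r (List.mem_append_right _ hr))
    rw [show wordAct r 0 = 0 from Fin.ext (hf r hr)] at this
    exact (congrArg Fin.val this).symm
  refine Equiv.ext fun i => ?_
  have hi : moveWords.getD i.1 [] ∈ moveWords ++ fixWords := by
    rw [List.getD_eq_getElem _ _ (by omega)]
    exact List.mem_append_left _ (List.getElem_mem _)
  have := happ _ (hlt _ hi)
  rw [h0, show wordAct (moveWords.getD i.1 []) 0 = i from Fin.ext (hm i.1 i.2)] at this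
  exact this

end CfsgLib.Spor.HN
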