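import Cfsg.Agent.Lib.Spor.HN.Pair
import Cfsg.Agent.Lib.Spor.HN.Perm
import Cfsg.Agent.Lib.Spor.HN.TopIndex.All

/-!
A group spanned by three elements satisfying the ten relators and `a² = 1`, mapped to the three permutations of one
hundred points, maps isomorphically onto the extension of HS by an outer involution.
-/

set_option autoImplicit false
set_option maxRecDepth 100000

namespace CfsgLib.Spor.HN

open CfsgLib.Spor CfsgLib.Spor.TC
open scoped commutatorElement

theorem simple_perm : IsSimpleGroup ↥HSPerm.P := by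
  have := Leech.Census32.simple_hs_base
  exact HSPerm.equivP.symm.isSimpleGroup

theorem noncommute_check : wordAct [0, 2] 0 ≠ wordAct [2, 0] 0 := by decide +kernel

theorem commutator_perm : ⁅HSPerm.P, HSPerm.P⁆ = HSPerm.P := by
  refine le_antisymm (Subgroup.commutator_le.2 fun g hg h hh => ?_) fun g hg => ?_
  · rw [commutatorElement_def]
    exact mul_mem (mul_mem (mul_mem hg hh) (inv_mem hg)) (inv_mem hh)
  have := simple_perm
  have hn : (commutator ↥HSPerm.P).Normal := inferInstance
  rcases hn.eq_bot_or_eq_top with h | h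
  · exfalso
    have hc : (⟨px, px_mem⟩ : ↥HSPerm.P) * ⟨py, py_mem⟩ = ⟨py, py_mem⟩ * ⟨px, px_mem⟩ := by
      have hm : ⁅(⟨px, px_mem⟩ : ↥HSPerm.P), (⟨py, py_mem⟩ : ↥HSPerm.P)⁆ ∈ commutator ↥HSPerm.P :=
        Subgroup.commutator_mem_commutator (Subgroup.mem_top _) (Subgroup.mem_top _)
      rw [h, Subgroup.mem_bot, commutatorElement_eq_one_iff_mul_comm] at hm
      exact hm
    refine noncommute_check ?_
    have e := congrArg (fun u : ↥HSPerm.P => (u : Equiv.Perm (Fin 100)) 0) hc
    exact e
  · have hm : (⟨g, hg⟩ : ↥HSPerm.P) ∈ commutator ↥HSPerm.P := by rw [h]; exact Subgroup.mem_top _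
    have h2 := Subgroup.mem_map_of_mem HSPerm.P.subtype hm
    rw [commutator_def, Subgroup.map_commutator, ← MonoidHom.range_eq_map, Subgroup.range_subtype] at h2
    exact h2

theorem card_range_ge {R : Subgroup (Equiv.Perm (Fin 100))} (hle : HSPerm.P ≤ R) (hz : pz ∈ R) :
    88704000 ≤ Nat.card R := by
  have h1 : (HSPerm.P.subgroupOf R).index ≠ 1 := fun h => pz_not_mem
    ((Subgroup.subgroupOf_eq_top.1 (Subgroup.index_eq_one.1 h)) hz)
  have h2 : (HSPerm.P.subgroupOf R).index ≠ 0 := Subgroup.index_ne_zero_of_finite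
  rw [← Subgroup.index_mul_card (HSPerm.P.subgroupOf R),
    Nat.card_congr (Subgroup.subgroupOfEquivOfLe hle).toEquiv, HSPerm.card_P]
  calc 88704000 = 2 * 44352000 := by norm_num
    _ ≤ _ := Nat.mul_le_mul_right _ (by omega)

theorem pair_word {H : Type*} [Group H] (u v w : H) (r : List ℕ) (hr : ∀ x ∈ r, x < 4) :
    ev (letterVal [u, v]) r = ev (letterVal [u, v, w]) r := by
  refine congrArg List.prod (List.map_congr_left fun x hx => ?_)
  have := hr x hx
  interval_cases x <;> rfl

/-- The main bound: the map to the permutations is injective. -/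
theorem injective_of_relations {G : Type*} [Group G] {a b c : G}
    (hrels : ∀ r ∈ pairRels ++ tripleRels, ev (letterVal [a, b, c]) r = 1) (ha : a * a = 1)
    (hgen : Subgroup.closure ({a, b, c} : Set G) = ⊤) (f : G →* Equiv.Perm (Fin 100))
    (hfa : f a = px) (hfb : f b = py) (hfc : f c = pz) :
    Function.Injective f ∧ HSPerm.P ≤ f.range ∧ Nat.card f.range = 88704000 := by
  set U := Subgroup.closure ({a, b} : Set G) with hUdef
  set a' : U := ⟨a, Subgroup.subset_closure (by simp)⟩ with ha'
  set b' : U := ⟨b, Subgroup.subset_closure (by simp)⟩ with hb'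
  have hlt : ∀ r ∈ centralWord :: pairRels, ∀ x ∈ r, x < 4 := by decide +kernel
  have hU : ∀ r ∈ pairRels, ev (letterVal [a', b']) r = 1 := by
    intro r hr
    refine Subtype.ext ?_
    show U.subtype _ = _
    rw [map_ev_letterVal]
    exact (pair_word a b c r (hlt r (List.mem_cons_of_mem _ hr))).trans (hrels r (List.mem_append_left _ hr))
  have ha2 : a' * a' = 1 := Subtype.ext ha
  let fU : U →* Equiv.Perm (Fin 100) := f.comp U.subtype
  have hfz : fU (centre a' b') = 1 := by
    rw [centre, map_ev_letterVal]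
    show ev (letterVal [f a, f b]) centralWord = 1
    rw [hfa, hfb, pair_word px py pz _ (hlt _ List.mem_cons_self)]
    exact rels_spec _ (by simp)
  obtain ⟨hc3, hcb⟩ := centre_facts fU hU ha2 hfz (by
    show ∀ i < 12, (i ≠ 0 → (f a * f b ^ 3) ^ i ≠ 1) ∧ (f a * f b ^ 3) ^ i * f a ≠ 1
    rw [hfa, hfb]
    exact free_spec)
  have hgU : Subgroup.closure ({a', b'} : Set U) = ⊤ := by
    refine Subgroup.map_injective U.subtype_injective ?_
    rw [MonoidHom.map_closure, ← MonoidHom.range_eq_map, Subgroup.range_subtype, Set.image_pair]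
    rfl
  obtain ⟨hnormU, hfinU, hcardU⟩ := card_pair hU ha2 hgU hc3 hcb
  set d := centre a b with hd
  have hcoe : U.subtype (centre a' b') = d := by
    rw [centre, map_ev_letterVal]
    rfl
  have hdw : ev (letterVal [a, b, c]) centralWord = d :=
    (pair_word a b c _ (hlt _ List.mem_cons_self)).symm
  have hd3 : d ^ 3 = 1 := by rw [← hcoe, ← map_pow, hc3, map_one]
  have hbd : b * d * b⁻¹ = d := by
    rw [← hcoe]
    exact congrArg U.subtype hcb
  have had : a * d * a = d⁻¹ := centre_flip ha
  have hindex : U.index ≠ 0 ∧ U.index ≤ 352 := by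
    refine Cert.index_le_signed TopIndex.steps_ok TopIndex.rows_ok TopIndex.row_zero (by norm_num)
      (letterVal [a, b, c]) (fun x => letterVal_inv [a, b, c] x) (letterVal_of_le le_rfl)
      (fun x hx => invLetter_lt rfl hx) ?_ ?_ U ?_
    · refine top_le_iff.1 (hgen ▸ (Subgroup.closure_le _).2 ?_)
      rintro x (rfl | rfl | rfl)
      · exact Subgroup.subset_closure ⟨0, by decide, by simp [letterVal]⟩
      · exact Subgroup.subset_closure ⟨2, by decide, by simp [letterVal]⟩
      · exact Subgroup.subset_closure ⟨4, by decide, by simp [letterVal]⟩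
    · have e : TopIndex.cert.rels = pairRels ++ tripleRels ++ [squareWord,
          centralWord ++ centralWord ++ centralWord,
          [2] ++ centralWord ++ [3] ++ revInvOnto 6 centralWord []] := by decide +kernel
      rw [e]
      intro r hr
      rcases List.mem_append.1 hr with h | h
      · exact hrels r h
      simp only [List.mem_cons, List.not_mem_nil, or_false] at h
      rcases h with rfl | rfl | rfl
      · simpa [ev, squareWord, letterVal] using ha
      · rw [ev_append, ev_append, hdw, ← hd3]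
        simp [pow_succ]
      · rw [ev_append, ev_append, ev_append,
          show ev (letterVal [a, b, c]) (revInvOnto 6 centralWord []) = _ from
            ev_revInvOnto TopIndex.cert (g := letterVal [a, b, c]) (fun x => letterVal_inv [a, b, c] x) _ _, hdw]
        simp [ev, letterVal, hbd]
    · intro r hr
      rw [show TopIndex.cert.subs = [[0], [2]] from rfl] at hr
      simp only [List.mem_cons, List.not_mem_nil, or_false] at hr
      rcases hr with rfl | rfl
      · exact Subgroup.subset_closure (by simp [ev, letterVal])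
      · exact Subgroup.subset_closure (by simp [ev, letterVal])
  have hcardG : Nat.card G = U.index * Nat.card U := (Subgroup.index_mul_card U).symm
  have : Finite G := Nat.finite_of_card_ne_zero (by
    rw [hcardG]; exact mul_ne_zero hindex.1 Nat.card_pos.ne')
  have hord : Nat.card (Subgroup.zpowers (centre a' b')) = Nat.card (Subgroup.zpowers d) := by
    rw [Nat.card_zpowers, Nat.card_zpowers, ← hcoe]
    exact (orderOf_injective U.subtype U.subtype_injective _).symm
  have hbound : Nat.card G ≤ 88704000 * Nat.card (Subgroup.zpowers d) := by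
    rw [hcardG, ← hord]
    calc U.index * Nat.card U ≤ 352 * (252000 * Nat.card (Subgroup.zpowers (centre a' b'))) :=
          Nat.mul_le_mul hindex.2 hcardU
      _ = _ := by rw [← mul_assoc]; norm_num
  have hmem : ∀ g ∈ [px, py, pz], g ∈ f.range := by
    intro g hg
    simp only [List.mem_cons, List.not_mem_nil, or_false] at hg
    rcases hg with rfl | rfl | rfl
    exacts [⟨a, hfa⟩, ⟨b, hfb⟩, ⟨c, hfc⟩]
  have hP := simple_le hmem
  have hge := card_range_ge hP (hmem _ (by simp))
  have hfd : f d = 1 := by rw [← hcoe]; exact hfz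
  have hZker : Subgroup.zpowers d ≤ f.ker := Subgroup.zpowers_le.2 hfd
  have hkr : Nat.card f.ker * Nat.card f.range = Nat.card G := by
    rw [← Subgroup.index_ker, mul_comm, Subgroup.index_mul_card]
  have hkle := Subgroup.card_le_of_le hZker
  have hkeq : Nat.card f.ker ≤ Nat.card (Subgroup.zpowers d) := by
    have h1 := Nat.mul_le_mul_left (Nat.card f.ker) hge
    rw [hkr] at h1
    omega
  have hker : f.ker = Subgroup.zpowers d := (Subgroup.eq_of_le_of_card_ge hZker hkeq).symm
  -- every element sends `d` to a power of `d`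
  have hconj : ∀ g : G, ∃ n : ℤ, g * d * g⁻¹ = d ^ n := fun g => by
    have h : g * d * g⁻¹ ∈ f.ker := f.normal_ker.conj_mem d (MonoidHom.mem_ker.2 hfd) g
    rw [hker, Subgroup.mem_zpowers_iff] at h
    obtain ⟨n, hn⟩ := h
    exact ⟨n, hn.symm⟩
  set K := HSPerm.P.comap f with hK
  have hcomm : ⁅K, K⁆ ≤ Subgroup.centralizer {d} := by
    refine Subgroup.commutator_le.2 fun g _ h _ => Subgroup.mem_centralizer_singleton_iff.2 ?_
    obtain ⟨m, hm⟩ := hconj g
    obtain ⟨n, hn⟩ := hconj h
    have e1 : (g * h) * d * (g * h)⁻¹ = (h * g) * d * (h * g)⁻¹ := by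
      calc (g * h) * d * (g * h)⁻¹ = g * (h * d * h⁻¹) * g⁻¹ := by group
        _ = d ^ (m * n) := by rw [hn, ← conj_zpow, hm, ← zpow_mul]
        _ = h * (g * d * g⁻¹) * h⁻¹ := by rw [hm, ← conj_zpow, hn, ← zpow_mul, mul_comm]
        _ = _ := by group
    have e2 : g * h * g⁻¹ * h⁻¹ * d * (g * h * g⁻¹ * h⁻¹)⁻¹ = d := by
      have e3 : g * h * g⁻¹ * h⁻¹ * d * (g * h * g⁻¹ * h⁻¹)⁻¹ =
          (g * h) * ((h * g)⁻¹ * d * (h * g)) * (g * h)⁻¹ := by group
      obtain ⟨k, hk⟩ := hconj (h * g)⁻¹
      rw [inv_inv] at hk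
      rw [e3, hk, ← conj_zpow, e1, conj_zpow, ← hk]
      group
    rw [commutatorElement_def]
    symm
    calc d * (g * h * g⁻¹ * h⁻¹) = (g * h * g⁻¹ * h⁻¹ * d * (g * h * g⁻¹ * h⁻¹)⁻¹) * (g * h * g⁻¹ * h⁻¹) := by
          rw [e2]
      _ = g * h * g⁻¹ * h⁻¹ * d := by group
  have hfK : ⁅K, K⁆.map f = HSPerm.P := by
    rw [Subgroup.map_commutator, hK, Subgroup.map_comap_eq_self hP, commutator_perm]
  have hacent : d * a = a * d := by
    have haP : f a ∈ HSPerm.P := hfa ▸ px_mem
    rw [← hfK] at haP
    obtain ⟨u, hu, hfu⟩ := Subgroup.mem_map.1 haP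
    have hu' := Subgroup.mem_centralizer_singleton_iff.1 (hcomm hu)
    have hk : u⁻¹ * a ∈ f.ker := by rw [MonoidHom.mem_ker, map_mul, map_inv, hfu, inv_mul_cancel]
    rw [hker, Subgroup.mem_zpowers_iff] at hk
    obtain ⟨n, hn⟩ := hk
    rw [eq_inv_mul_iff_mul_eq] at hn
    rw [← hn]
    exact (Commute.mul_right (show Commute d u from hu'.symm) ((Commute.refl d).zpow_right n)).eq
  have hd1 : d = 1 := by
    have h2 : d = d⁻¹ := by
      rw [← had, mul_assoc, hacent, ← mul_assoc, ha, one_mul]
    have h4 : d * d = 1 := by nth_rewrite 2 [h2]; exact mul_inv_cancel d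
    rw [pow_succ, pow_two, h4, one_mul] at hd3
    exact hd3
  have hbot : f.ker = ⊥ := by rw [hker, hd1, Subgroup.zpowers_one_eq_bot]
  refine ⟨(MonoidHom.ker_eq_bot_iff f).1 hbot, hP, le_antisymm ?_ hge⟩
  have hz : Nat.card (Subgroup.zpowers d) = 1 := by rw [hd1, Subgroup.zpowers_one_eq_bot, Subgroup.card_bot]
  rw [hz, mul_one] at hbound
  rw [hbot, Subgroup.card_bot, one_mul] at hkr
  omega

end CfsgLib.Spor.HN
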